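import Mathlib

/-!
# Projectivity of cokernels of maps of finite projective modules

For `d : M → N` with `M`, `N` finite projective, the cokernel is projective iff `d` has a
generalized inverse `h` (`d h d = d`); locally at a prime this is governed by the fibre.
-/

universe u v w

open TensorProduct

namespace GrothLib.CokerProj

variable {R : Type u} [CommRing R] {M : Type v} {N : Type w} [AddCommGroup M] [Module R M]
  [AddCommGroup N] [Module R N] (d : M →ₗ[R] N)

/-- `f` admits a generalized inverse of `d` up to the scalar `f`. -/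
def GenInv (f : R) : Prop := ∃ h : N →ₗ[R] M, ∀ x, d (h (d x)) = f • d x

lemma projective_of_genInv_one [Module.Projective R N] (hd : GenInv d 1) :
    Module.Projective R (N ⧸ LinearMap.range d) := by
  obtain ⟨h, hh⟩ := hd
  let s : (N ⧸ LinearMap.range d) →ₗ[R] N := (LinearMap.range d).liftQ (LinearMap.id - d ∘ₗ h) (by
    rintro _ ⟨x, rfl⟩
    simp [hh])
  refine Module.Projective.of_split s (LinearMap.range d).mkQ (LinearMap.ext fun c => ?_)
  obtain ⟨y, rfl⟩ := Submodule.Quotient.mk_surjective _ c
  change (LinearMap.range d).mkQ (y - d (h y)) = Submodule.Quotient.mk y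
  rw [map_sub, Submodule.mkQ_apply, Submodule.mkQ_apply,
    (Submodule.Quotient.mk_eq_zero _).2 (LinearMap.mem_range_self d (h y)), sub_zero]

lemma genInv_of_section [Module.Projective R N] (g : R) (s : (N ⧸ LinearMap.range d) →ₗ[R] N)
    (hs : ∀ c, (LinearMap.range d).mkQ (s c) = g • c) : GenInv d g := by
  let e : N →ₗ[R] LinearMap.range d := LinearMap.codRestrict _ (g • LinearMap.id - s ∘ₗ (LinearMap.range d).mkQ)
    (fun y => by
      rw [← Submodule.Quotient.mk_eq_zero, ← Submodule.mkQ_apply, LinearMap.sub_apply, map_sub]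
      simp only [LinearMap.comp_apply, hs, LinearMap.smul_apply, LinearMap.id_coe, id_eq, map_smul, sub_self])
  obtain ⟨h, hh⟩ := Module.projective_lifting_property d.rangeRestrict e d.surjective_rangeRestrict
  refine ⟨h, fun x => ?_⟩
  have h1 : d (h (d x)) = g • d x - s ((LinearMap.range d).mkQ (d x)) :=
    congrArg Subtype.val (LinearMap.congr_fun hh (d x))
  rw [h1, Submodule.mkQ_apply, (Submodule.Quotient.mk_eq_zero _).2 (LinearMap.mem_range_self d x), map_zero,
    sub_zero]

/-- The cokernel is projective iff `d` has a generalized inverse. -/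
theorem projective_iff [Module.Projective R N] :
    Module.Projective R (N ⧸ LinearMap.range d) ↔ GenInv d 1 := by
  refine ⟨fun _ => ?_, projective_of_genInv_one d⟩
  obtain ⟨s, hs⟩ := Module.projective_lifting_property (LinearMap.range d).mkQ LinearMap.id
    (Submodule.mkQ_surjective _)
  exact genInv_of_section d 1 s fun c => by rw [one_smul]; exact LinearMap.congr_fun hs c

/-- The scalars admitting a generalized inverse form an ideal. -/
def genInvIdeal : Ideal R where
  carrier := {f | GenInv d f}
  add_mem' := fun {a b} ⟨h, hh⟩ ⟨h', hh'⟩ => ⟨h + h', fun x => by simp [hh, hh', add_smul]⟩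
  zero_mem' := ⟨0, fun x => by simp⟩
  smul_mem' := fun c a ⟨h, hh⟩ => ⟨c • h, fun x => by simp [hh, mul_smul]⟩

lemma genInv_one_of_forall (h : ∀ p : PrimeSpectrum R, ∃ f, f ∉ p.asIdeal ∧ GenInv d f) :
    GenInv d 1 := by
  suffices genInvIdeal d = ⊤ from (Ideal.eq_top_iff_one _).1 this
  by_contra hne
  obtain ⟨m, hm, hle⟩ := Ideal.exists_le_maximal _ hne
  obtain ⟨f, hf, hg⟩ := h ⟨m, hm.isPrime⟩
  exact hf (hle hg)

lemma genInv_of_proj_away [Module.Finite R M] [Module.Finite R N] [Module.Projective R N] (f : R)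
    [Module.Projective (Localization.Away f) (LocalizedModule (Submonoid.powers f) (N ⧸ LinearMap.range d))] :
    ∃ g ∈ Submonoid.powers f, GenInv d g := by
  let S := Submonoid.powers f
  haveI : Module.FinitePresentation R N := Module.finitePresentation_of_projective R N
  haveI : Module.FinitePresentation R (N ⧸ LinearMap.range d) :=
    Module.finitePresentation_of_surjective _ (Submodule.mkQ_surjective _)
      (by rw [Submodule.ker_mkQ]; exact Module.Finite.iff_fg.1 inferInstance)
  let q := (LinearMap.range d).mkQ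
  obtain ⟨σ, hσ⟩ := Module.projective_lifting_property (LocalizedModule.map S q) LinearMap.id
    (LocalizedModule.map_surjective S q (Submodule.mkQ_surjective _))
  obtain ⟨s, a, hs⟩ := Module.FinitePresentation.exists_lift_of_isLocalizedModule S
    (LocalizedModule.mkLinearMap S N) ((σ.restrictScalars R) ∘ₗ LocalizedModule.mkLinearMap S _)
  have key : LocalizedModule.mkLinearMap S _ ∘ₗ (q ∘ₗ s) =
      LocalizedModule.mkLinearMap S (N ⧸ LinearMap.range d) ∘ₗ ((a : R) • LinearMap.id) := by
    ext y
    have h1 := LinearMap.congr_fun hs (q y)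
    have h2 : ∀ z, LocalizedModule.mkLinearMap S (N ⧸ LinearMap.range d) (q z) =
        LocalizedModule.map S q (LocalizedModule.mkLinearMap S N z) := fun z => by
      simp [LocalizedModule.mkLinearMap_apply, LocalizedModule.map_mk]
    have h3 := LinearMap.congr_fun hσ (LocalizedModule.mkLinearMap S _ (q y))
    simp only [LinearMap.comp_apply, LinearMap.id_apply] at h3
    simp only [LinearMap.comp_apply, LinearMap.smul_apply, LinearMap.id_apply, Submonoid.smul_def,
      LinearMap.restrictScalars_apply] at h1 ⊢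
    change LocalizedModule.mkLinearMap S _ (q (s (q y))) = _
    rw [h2, h1, LinearMap.map_smul_of_tower, h3, map_smul]
  obtain ⟨b, hb⟩ := Module.Finite.exists_smul_of_comp_eq_of_isLocalizedModule S
    (LocalizedModule.mkLinearMap S _) _ _ key
  refine ⟨(b : R) * a, mul_mem b.2 a.2, genInv_of_section d _ ((b : R) • s) fun c => ?_⟩
  have := LinearMap.congr_fun hb c
  simp only [Submonoid.smul_def, LinearMap.smul_apply, LinearMap.comp_apply, LinearMap.id_apply] at this
  rw [LinearMap.smul_apply, map_smul, this, mul_smul]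

lemma proj_away_of_genInv [Module.Projective R N] (f : R) (hd : GenInv d f) :
    Module.Projective (Localization.Away f)
      (LocalizedModule (Submonoid.powers f) (N ⧸ LinearMap.range d)) := by
  obtain ⟨h, hh⟩ := hd
  let S := Submonoid.powers f
  let q := (LinearMap.range d).mkQ
  let s : (N ⧸ LinearMap.range d) →ₗ[R] N := (LinearMap.range d).liftQ (f • LinearMap.id - d ∘ₗ h) (by
    rintro _ ⟨x, rfl⟩
    simp [hh])
  have hs : q ∘ₗ s = f • LinearMap.id := LinearMap.ext fun c => by
    obtain ⟨y, rfl⟩ := Submodule.Quotient.mk_surjective _ c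
    change q (f • y - d (h y)) = f • Submodule.Quotient.mk y
    rw [map_sub, map_smul, Submodule.mkQ_apply, Submodule.mkQ_apply,
      (Submodule.Quotient.mk_eq_zero _).2 (LinearMap.mem_range_self d (h y)), sub_zero]
  refine Module.Projective.of_split
    (Localization.mk 1 (⟨f, Submonoid.mem_powers f⟩ : S) • LocalizedModule.map S s)
    (LocalizedModule.map S q) (LinearMap.ext fun x => ?_)
  induction x using LocalizedModule.induction_on with
  | h c t =>
    have := LinearMap.congr_fun hs c
    simp only [LinearMap.comp_apply, LinearMap.smul_apply, LinearMap.id_apply, LocalizedModule.map_mk,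
      map_smul, LocalizedModule.mk_smul_mk, one_smul] at this ⊢
    rw [this]
    exact LocalizedModule.mk_cancel_common_left (⟨f, Submonoid.mem_powers f⟩ : S) t c

/-- Fibrewise criterion. -/
theorem exists_genInv_of_fibre [Module.Finite R M] [Module.Finite R N] [Module.Projective R N]
    (p : PrimeSpectrum R)
    (H : LinearMap.ker (d.baseChange p.asIdeal.ResidueField) ≤
      LinearMap.range ((LinearMap.ker d).subtype.baseChange p.asIdeal.ResidueField)) :
    ∃ f, f ∉ p.asIdeal ∧ GenInv d f := by
  classical
  let k := p.asIdeal.ResidueField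
  have hspan : LinearMap.range (d.baseChange k) = Submodule.span k (Set.range fun m : M => (1 : k) ⊗ₜ[R] d m) := by
    refine le_antisymm ?_ (Submodule.span_le.2 ?_)
    · rintro _ ⟨x, rfl⟩
      induction x using TensorProduct.induction_on with
      | zero => simp
      | tmul a m =>
        rw [LinearMap.baseChange_tmul, show a ⊗ₜ[R] d m = a • ((1 : k) ⊗ₜ[R] d m) by
          rw [TensorProduct.smul_tmul', smul_eq_mul, mul_one]]
        exact Submodule.smul_mem _ _ (Submodule.subset_span ⟨m, rfl⟩)
      | add x y hx hy => rw [map_add]; exact add_mem hx hy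
    · rintro _ ⟨m, rfl⟩
      exact ⟨(1 : k) ⊗ₜ m, LinearMap.baseChange_tmul _ _ _⟩
  obtain ⟨T, hTsub, hTspan, hTind⟩ := exists_linearIndependent k (Set.range fun m : M => (1 : k) ⊗ₜ[R] d m)
  haveI : Finite T := hTind.finite
  haveI := Fintype.ofFinite T
  choose m hm using fun t : T => hTsub t.2
  -- a left inverse over the residue field, realised by functionals
  obtain ⟨n, i, r, hir⟩ : ∃ (n : ℕ) (i : N →ₗ[R] (Fin n → R)) (r : (Fin n → R) →ₗ[R] N), r ∘ₗ i = LinearMap.id := by
    obtain ⟨n, r, hr⟩ := Module.Finite.exists_fin' R N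
    obtain ⟨i, hi⟩ := Module.projective_lifting_property r LinearMap.id hr
    exact ⟨n, i, r, hi⟩
  let L : Matrix (Fin n) T R := Matrix.of fun a t => i (d (m t)) a
  let φ := algebraMap R k
  have hL : LinearIndependent k (L.map φ).col := by
    have hinj : Function.Injective (i.baseChange k) := fun x y hxy => by
      have := congrArg (r.baseChange k) hxy
      rwa [← LinearMap.comp_apply, ← LinearMap.comp_apply, ← LinearMap.baseChange_comp, hir,
        LinearMap.baseChange_id] at this
    have h1 : LinearIndependent k (fun t : T => (TensorProduct.piScalarRight R k k (Fin n)).toLinearMap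
        (i.baseChange k (t : k ⊗[R] N))) := by
      refine (hTind.map' (i.baseChange k) (LinearMap.ker_eq_bot.2 hinj)).map' _ ?_
      exact LinearEquiv.ker _
    convert h1 using 1
    funext t a
    rw [← hm t]
    simp [L, Matrix.col, φ, Algebra.algebraMap_eq_smul_one]
  obtain ⟨G, hG⟩ : ∃ G : Matrix T (Fin n) k, G * L.map φ = 1 := by
    obtain ⟨g, hg⟩ := LinearMap.exists_leftInverse_of_injective (Matrix.toLin' (L.map φ))
      (LinearMap.ker_eq_bot.2 (Matrix.mulVec_injective_iff.2 hL :))
    refine ⟨LinearMap.toMatrix' g, ?_⟩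
    have := congrArg LinearMap.toMatrix' hg
    rwa [LinearMap.toMatrix'_comp, LinearMap.toMatrix'_toLin', LinearMap.toMatrix'_id] at this
  obtain ⟨c, hc⟩ : ∃ c : (nonZeroDivisors (R ⧸ p.asIdeal)), ∀ a : T × Fin n,
      IsLocalization.IsInteger (R ⧸ p.asIdeal) ((algebraMap (R ⧸ p.asIdeal) k c) * G a.1 a.2) := by
    obtain ⟨c, hc⟩ := IsLocalization.exist_integer_multiples_of_finite (nonZeroDivisors (R ⧸ p.asIdeal))
      (fun a : T × Fin n => G a.1 a.2)
    exact ⟨c, fun a => by simpa [Algebra.smul_def] using hc a⟩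
  obtain ⟨c₀, hc₀⟩ := Ideal.Quotient.mk_surjective (c : R ⧸ p.asIdeal)
  choose G₀ hG₀ using hc
  choose G₁ hG₁ using fun a => Ideal.Quotient.mk_surjective (G₀ a)
  let G' : Matrix T (Fin n) R := Matrix.of fun t a => G₁ (t, a)
  have hφ : ∀ x, φ x = algebraMap (R ⧸ p.asIdeal) k (Ideal.Quotient.mk _ x) := fun x =>
    IsScalarTower.algebraMap_apply R (R ⧸ p.asIdeal) k x
  have hG' : G'.map φ = φ c₀ • G := by
    ext t a
    simp only [Matrix.map_apply, G', Matrix.of_apply, Matrix.smul_apply, smul_eq_mul, hφ, hG₁, hc₀]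
    exact hG₀ (t, a)
  set A := G' * L
  have hdet : A.det ∉ p.asIdeal := by
    intro hmem
    have h0 : φ A.det = 0 := Ideal.algebraMap_residueField_eq_zero.2 hmem
    rw [RingHom.map_det, RingHom.mapMatrix_apply, Matrix.map_mul, hG', Matrix.smul_mul, hG,
      Matrix.det_smul, Matrix.det_one, mul_one] at h0
    have h0' := eq_zero_of_pow_eq_zero h0
    have : c₀ ∈ p.asIdeal := Ideal.algebraMap_residueField_eq_zero.1 h0'
    exact nonZeroDivisors.coe_ne_zero c (hc₀.symm.trans (Ideal.Quotient.eq_zero_iff_mem.2 this))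
  let g : N →ₗ[R] (T → R) := (A.adjugate * G').mulVecLin ∘ₗ i
  let mm : (T → R) →ₗ[R] M := Fintype.linearCombination R m
  have hgm : ∀ v, g (d (mm v)) = A.det • v := by
    intro v
    have hiv : i (d (mm v)) = L.mulVec v := by
      funext a
      simp [mm, Fintype.linearCombination_apply, L, Matrix.mulVec, dotProduct, mul_comm]
    simp only [g, LinearMap.comp_apply, hiv, Matrix.mulVecLin_apply, Matrix.mulVec_mulVec, Matrix.mul_assoc,
      show A.adjugate * (G' * L) = A.det • (1 : Matrix T T R) from Matrix.adjugate_mul A]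
    rw [Matrix.smul_mulVec, Matrix.one_mulVec]
  -- `ker d` and the `m`'s generate `M` near `p`
  set W := LinearMap.ker d ⊔ LinearMap.range mm
  have hW : p ∉ Module.support R (M ⧸ W) := by
    rw [Module.mem_support_iff_nontrivial_residueField_tensorProduct, not_nontrivial_iff_subsingleton]
    have hsurj : LinearMap.range (W.subtype.baseChange k) = ⊤ := by
      rw [eq_top_iff]
      intro x _
      have hx : d.baseChange k x ∈ Submodule.span k T := by
        rw [hTspan, ← hspan]; exact LinearMap.mem_range_self _ x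
      obtain ⟨a, ha⟩ := (Submodule.mem_span_range_iff_exists_fun k).1
        (show d.baseChange k x ∈ Submodule.span k (Set.range ((↑) : T → k ⊗[R] N)) by
          rwa [Subtype.range_coe])
      let y : k ⊗[R] M := ∑ t, a t • ((1 : k) ⊗ₜ[R] m t)
      have hy : y ∈ LinearMap.range (W.subtype.baseChange k) := by
        refine Submodule.sum_mem _ fun t _ => Submodule.smul_mem _ _ ⟨(1 : k) ⊗ₜ ⟨m t, ?_⟩, by simp⟩
        exact Submodule.mem_sup_right ⟨Pi.single t 1, by simp [mm]⟩
      have hxy : x - y ∈ LinearMap.ker (d.baseChange k) := by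
        rw [LinearMap.mem_ker, map_sub, sub_eq_zero, ← ha]
        simp [y, hm]
      have hK : LinearMap.range ((LinearMap.ker d).subtype.baseChange k) ≤ LinearMap.range (W.subtype.baseChange k) := by
        rw [show (LinearMap.ker d).subtype = W.subtype ∘ₗ Submodule.inclusion le_sup_left from rfl,
          LinearMap.baseChange_comp]
        exact LinearMap.range_comp_le_range _ _
      simpa using add_mem (hK (H hxy)) hy
    refine ⟨fun z w => ?_⟩
    obtain ⟨z, rfl⟩ := LinearMap.lTensor_surjective k (Submodule.mkQ_surjective W) z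
    obtain ⟨w, rfl⟩ := LinearMap.lTensor_surjective k (Submodule.mkQ_surjective W) w
    have h0 : ∀ z, (W.mkQ).lTensor k z = 0 := fun z => by
      obtain ⟨z', hz'⟩ : z ∈ LinearMap.range (W.subtype.baseChange k) := hsurj ▸ Submodule.mem_top
      rw [← hz']
      change ((W.mkQ).lTensor k ∘ₗ W.subtype.lTensor k) z' = 0
      rw [← LinearMap.lTensor_comp, show W.mkQ ∘ₗ W.subtype = 0 by ext; simp, LinearMap.lTensor_zero]
      rfl
    rw [h0, h0]
  obtain ⟨f₂, hf₂ann, hf₂⟩ : ∃ f₂ ∈ Module.annihilator R (M ⧸ W), f₂ ∉ p.asIdeal := by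
    rw [Module.support_eq_zeroLocus, PrimeSpectrum.mem_zeroLocus, Set.not_subset] at hW
    exact hW
  refine ⟨f₂ * A.det, p.isPrime.mul_notMem hf₂ hdet, f₂ • (mm ∘ₗ g), fun x => ?_⟩
  have hx : f₂ • x ∈ W := by
    rw [← Submodule.Quotient.mk_eq_zero, Submodule.Quotient.mk_smul]
    exact Module.mem_annihilator.1 hf₂ann _
  obtain ⟨κ, hκ, _, ⟨v, rfl⟩, hv⟩ := Submodule.mem_sup.1 hx
  have hdv : f₂ • d x = d (mm v) := by
    rw [← map_smul, ← hv, map_add, LinearMap.mem_ker.1 hκ, zero_add]
  have : d ((f₂ • (mm ∘ₗ g)) (d x)) = d (mm (g (f₂ • d x))) := by simp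
  rw [this, hdv, hgm, map_smul, map_smul, ← hdv, smul_smul, mul_comm]

theorem fibre_of_genInv (p : PrimeSpectrum R) (f : R) (hf : f ∉ p.asIdeal) (hd : GenInv d f) :
    LinearMap.ker (d.baseChange p.asIdeal.ResidueField) ≤
      LinearMap.range ((LinearMap.ker d).subtype.baseChange p.asIdeal.ResidueField) := by
  obtain ⟨h, hh⟩ := hd
  let k := p.asIdeal.ResidueField
  let q : M →ₗ[R] LinearMap.ker d := LinearMap.codRestrict _ (f • LinearMap.id - h ∘ₗ d) fun x => by
    simp [hh]
  intro x hx
  have hq : (LinearMap.ker d).subtype.baseChange k (q.baseChange k x) = algebraMap R k f • x := by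
    rw [← LinearMap.comp_apply, ← LinearMap.baseChange_comp,
      show (LinearMap.ker d).subtype ∘ₗ q = f • LinearMap.id - h ∘ₗ d from rfl,
      LinearMap.baseChange_sub, LinearMap.baseChange_smul, LinearMap.baseChange_id,
      LinearMap.baseChange_comp]
    have hx0 : d.baseChange k x = 0 := hx
    simp [hx0, algebraMap_smul]
  have hu : algebraMap R k f ≠ 0 := fun h0 => hf (Ideal.algebraMap_residueField_eq_zero.1 h0)
  exact ⟨(algebraMap R k f)⁻¹ • q.baseChange k x, by rw [map_smul, hq, inv_smul_smul₀ hu]⟩

end GrothLib.CokerProj
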